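import Mathlib
import Cfsg.Agent.Lib.Helper10.BR0
import Cfsg.Agent.Lib.Helper83.Codeg

/-!
# Brauer–Reynolds (S0999), piece BR-X5 (helper18 for helper10): `pre_numeric`
-/

set_option autoImplicit false

namespace Cfsg.Agent.Lib.Helper10.BR

open Cfsg
open Cfsg.Agent.Lib.Helper83 (trivIrr)

namespace BRX5aux

/-- the degree equation, in `ℤ` -/
theorem deg_eq {G : Type*} [Group G] [Fintype G] (p : ℕ) (hp5 : 5 ≤ p)
    (M : Ideal AlgInt) (P : Subgroup G) (e t n : ℕ) (ε : ℤ) (x₀ : ℕ)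
    (A B Y : Finset (IrrCharacter G)) (h : Pre G p M P e t n ε x₀ A B Y)
    (θ : IrrCharacter G) (hθ : θ ∈ Y) :
    ε * (x₀ : ℤ) = 1 + (A.card : ℤ) * (1 + n * p) - (B.card : ℤ) * ((p : ℤ) - 1) := by
  have h1 : ¬ p ∣ orderOf (1 : G) := by
    rw [orderOf_one]
    intro hd
    have := Nat.le_of_dvd one_pos hd
    omega
  have ht := h.t1 θ hθ 1 h1
  rw [h.degY θ hθ, Finset.sum_congr rfl (fun χ hχ => h.degA χ hχ),
    Finset.sum_congr rfl (fun χ hχ => h.degB χ hχ), Finset.sum_const, Finset.sum_const] at ht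
  have hp1 : ((p - 1 : ℕ) : ℂ) = (p : ℂ) - 1 := by
    rw [Nat.cast_sub (by omega)]
    simp
  rw [hp1] at ht
  have h2 : ((ε * (x₀ : ℤ) : ℤ) : ℂ) =
      ((1 + (A.card : ℤ) * (1 + n * p) - (B.card : ℤ) * ((p : ℤ) - 1) : ℤ) : ℂ) := by
    push_cast
    rw [ht]
    simp only [nsmul_eq_mul]
    push_cast
    ring
  exact_mod_cast h2

end BRX5aux

/-- BR-X5 -/
theorem pre_numeric {G : Type*} [Group G] [Fintype G] (p : ℕ) (hp : p.Prime) (hp5 : 5 ≤ p)
    (M : Ideal AlgInt) (P : Subgroup G) (e t n v : ℕ) (ε : ℤ) (x₀ : ℕ)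
    (A B Y : Finset (IrrCharacter G)) (h : Pre G p M P e t n ε x₀ A B Y)
    (he2 : 2 ≤ e) (het : e * t = p - 1) (hn : 2 ≤ n) (hnev : n * e * v < p) (hv : 1 ≤ v)
    (hcard : Nat.card G = (1 + n * p) * (e * (p * v))) :
    1 ≤ B.card ∧ n + 1 = t ∧ v = 1 ∧ 3 ≤ t := by
  have ht1 : 1 ≤ t := by
    rcases Nat.eq_zero_or_pos t with h0 | h0
    · rw [h0, mul_zero] at het
      omega
    · exact h0
  have hYne : Y.Nonempty := by
    rw [← Finset.card_pos, h.cardY]
    exact ht1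
  obtain ⟨θ, hθ⟩ := hYne
  have hdeg := BRX5aux.deg_eq p hp5 M P e t n ε x₀ A B Y h θ hθ
  have hx0 : charDegree (θ : G → ℂ) = x₀ := by
    have h1 := (Cfsg.Agent.Lib.Helper83.irr_degree θ.2).2
    rw [h.degY θ hθ] at h1
    exact_mod_cast h1.symm
  have hdvd : x₀ ∣ (1 + n * p) * (e * (p * v)) := by
    rw [← hcard, ← hx0]
    exact Cfsg.Agent.Lib.Helper83.irr_degree_dvd_card θ
  have hele : e ≤ p - 1 := by
    calc e = e * 1 := (mul_one e).symm
      _ ≤ e * t := Nat.mul_le_mul_left e ht1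
      _ = p - 1 := het
  have hB : 1 ≤ B.card := by
    by_contra hB0
    have hB0' : B.card = 0 := by omega
    have hA : A.card = e - 1 := by
      have := h.cardAB
      omega
    rw [hB0', hA] at hdeg
    have hε1 : ε = 1 := by
      rcases h.hε with h1 | h1
      · exact h1
      · exfalso
        rw [h1] at hdeg
        have h3 : (0 : ℤ) ≤ ((e - 1 : ℕ) : ℤ) * (1 + n * p) := by positivity
        have hx : (0 : ℤ) ≤ x₀ := by positivity
        push_cast at hdeg
        linarith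
    rw [hε1, one_mul] at hdeg
    have hx0eq : x₀ = 1 + (e - 1) * (1 + n * p) := by
      have h4 : (x₀ : ℤ) = ((1 + (e - 1) * (1 + n * p) : ℕ) : ℤ) := by
        rw [hdeg]
        push_cast
        ring
      exact_mod_cast h4
    have hcop : Nat.Coprime x₀ (1 + n * p) := by
      rw [hx0eq]
      exact (Nat.coprime_add_mul_right_left 1 (1 + n * p) (e - 1)).2 (Nat.coprime_one_left _)
    have hdvd2 : x₀ ∣ e * (p * v) := hcop.dvd_of_dvd_mul_left hdvd
    have hnp : ¬ p ∣ x₀ := by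
      intro hpd
      have hm := h.modY
      rw [hε1, one_mul] at hm
      have h3 : (p : ℤ) ∣ (x₀ : ℤ) := by exact_mod_cast hpd
      have h4 : (p : ℤ) ∣ (e : ℤ) - (x₀ : ℤ) := hm.dvd
      have h5 : (p : ℤ) ∣ (e : ℤ) := by
        have := dvd_add h4 h3
        simpa using this
      have hpe : p ∣ e := by exact_mod_cast h5
      have := Nat.le_of_dvd (by omega) hpe
      omega
    have hcop2 : Nat.Coprime x₀ p := ((Nat.Prime.coprime_iff_not_dvd hp).2 hnp).symm
    have hdvd3 : x₀ ∣ e * v := by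
      have h3 : e * (p * v) = p * (e * v) := by ring
      rw [h3] at hdvd2
      exact hcop2.dvd_of_dvd_mul_left hdvd2
    have hev : 0 < e * v := Nat.mul_pos (by omega) (by omega)
    have hle := Nat.le_of_dvd hev hdvd3
    have h5 : e * v ≤ n * e * v :=
      Nat.mul_le_mul_right v (Nat.le_mul_of_pos_left e (by omega : 0 < n))
    have h6 : 1 + n * p ≤ (e - 1) * (1 + n * p) :=
      Nat.le_mul_of_pos_left (1 + n * p) (by omega : 0 < e - 1)
    have h7 : 2 * p ≤ n * p := Nat.mul_le_mul_right p hn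
    omega
  have hBne : B.Nonempty := Finset.card_pos.mp hB
  have hnB := h.nB hBne
  have hnt : n + 1 = t := by
    have h3 : (n + 1) * e = t * e := by rw [hnB, ← het, mul_comm]
    exact Nat.eq_of_mul_eq_mul_right (by omega) h3
  refine ⟨hB, hnt, ?_, by omega⟩
  by_contra hv1
  have hv2 : 2 ≤ v := by omega
  have h7 : n * e + e = p - 1 := by
    rw [← hnB]
    ring
  have h8 : n * e * 2 ≤ n * e * v := Nat.mul_le_mul_left (n * e) hv2
  have h9 : e * 3 ≤ e * t := Nat.mul_le_mul_left e (by omega : 3 ≤ t)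
  omega

end Cfsg.Agent.Lib.Helper10.BR
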