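import Mathlib
import Cfsg.Agent.S4035

/-!
# S4125 piece P11 (`baer_eq_case`)

If every `q`-element of the finite group `G` has a conjugacy class of `q`-power size, then a
Sylow `q`-subgroup `Q` is normal and has a normal complement.
-/

set_option autoImplicit false

namespace Cfsg.Agent.Lib.Helper18

open Cfsg.Agent.Lib.Helper72

variable {G : Type*} [Group G] [Finite G]

/-- If `C` has `q`-power index and `Q` is a Sylow `q`-subgroup then `G = Q * C`. -/
theorem baerP11_trans (q : ℕ) [Fact q.Prime] (Q : Sylow q G) (C : Subgroup G) (a : ℕ)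
    (hC : C.index = q ^ a) (g : G) : ∃ u ∈ (Q : Subgroup G), u⁻¹ * g ∈ C := by
  have h1 : C.relIndex (Q : Subgroup G) = C.index := by
    have e1 : (C ⊓ (Q : Subgroup G)).relIndex (Q : Subgroup G) * (Q : Subgroup G).index
        = (C ⊓ (Q : Subgroup G)).index := Subgroup.relIndex_mul_index inf_le_right
    rw [Subgroup.inf_relIndex_right] at e1
    have e2 : C.index ∣ (C ⊓ (Q : Subgroup G)).index := Subgroup.index_dvd_of_le inf_le_left
    have e3 : (C ⊓ (Q : Subgroup G)).index ≤ C.index * (Q : Subgroup G).index :=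
      Subgroup.index_inf_le
    have hQ0 : 0 < (Q : Subgroup G).index := Nat.pos_of_ne_zero Subgroup.index_ne_zero_of_finite
    have hcop : Nat.Coprime C.index (Q : Subgroup G).index := by
      rw [hC]
      exact Nat.Coprime.pow_left _
        ((Nat.Prime.coprime_iff_not_dvd (Fact.out : q.Prime)).2 Q.not_dvd_index)
    have e4 : C.index ∣ C.relIndex (Q : Subgroup G) := by
      rw [← e1] at e2
      exact hcop.dvd_of_dvd_mul_right e2
    have e5 : C.relIndex (Q : Subgroup G) ≤ C.index := by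
      rw [← e1] at e3
      exact Nat.le_of_mul_le_mul_right e3 hQ0
    have hne : C.relIndex (Q : Subgroup G) ≠ 0 :=
      (Subgroup.index_ne_zero_of_finite : (C.subgroupOf (Q : Subgroup G)).index ≠ 0)
    exact Nat.le_antisymm e5 (Nat.le_of_dvd (Nat.pos_of_ne_zero hne) e4)
  have hstab : MulAction.stabilizer (Q : Subgroup G) ((1 : G) : G ⧸ C)
      = C.subgroupOf (Q : Subgroup G) := by
    ext u
    rw [MulAction.mem_stabilizer_iff, Subgroup.mem_subgroupOf]
    change (((u : G) * 1 : G) : G ⧸ C) = ((1 : G) : G ⧸ C) ↔ (u : G) ∈ C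
    rw [QuotientGroup.eq]
    constructor
    · intro hu
      have := C.inv_mem hu
      simpa using this
    · intro hu
      have := C.inv_mem hu
      simpa using this
  have horb : MulAction.orbit (Q : Subgroup G) ((1 : G) : G ⧸ C) = Set.univ := by
    rw [Set.eq_univ_iff_ncard, ← MulAction.index_stabilizer, hstab]
    exact h1
  have hg : ((g : G) : G ⧸ C) ∈ MulAction.orbit (Q : Subgroup G) ((1 : G) : G ⧸ C) := by
    rw [horb]; exact Set.mem_univ _
  obtain ⟨u, hu⟩ := hg
  refine ⟨(u : G), u.2, ?_⟩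
  have hu' : (((u : G) * 1 : G) : G ⧸ C) = ((g : G) : G ⧸ C) := hu
  rw [QuotientGroup.eq] at hu'
  simpa using hu'

omit [Finite G] in
theorem baerP11_ncard (x : G) :
    (ConjClasses.mk x).carrier.ncard = (Subgroup.centralizer ({x} : Set G)).index := by
  have h1 := Subgroup.index_comap_of_surjective (MulAction.stabilizer (ConjAct G) x)
    (f := (ConjAct.toConjAct (G := G)).toMonoidHom) (MulEquiv.surjective _)
  rw [← ConjAct.orbit_eq_carrier_conjClasses, ← MulAction.index_stabilizer,
    Subgroup.centralizer_eq_comap_stabilizer]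
  exact h1.symm

/-- An element of prime power order `r ^ k`, `r ≠ q`, centralizes `Q`. -/
theorem baerP11_primary (q : ℕ) [Fact q.Prime]
    (h : ∀ x : G, (∃ k : ℕ, orderOf x = q ^ k) →
      ∃ a : ℕ, (Subgroup.centralizer ({x} : Set G)).index = q ^ a)
    (Q : Sylow q G) (r : ℕ) (hr : r.Prime) (hrq : r ≠ q) (g : G) (k : ℕ)
    (hg : orderOf g = r ^ k) : ∀ w ∈ (Q : Subgroup G), g * w = w * g := by
  have : Fact r.Prime := ⟨hr⟩
  have hzp : IsPGroup r (Subgroup.zpowers g) := by
    apply IsPGroup.of_card (n := k)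
    rw [Nat.card_zpowers, hg]
  obtain ⟨R, hR⟩ := hzp.exists_le_sylow
  have hgR : g ∈ (R : Subgroup G) := hR (Subgroup.mem_zpowers g)
  have htop : (Subgroup.centralizer ({g} : Set G)).subgroupOf (Q : Subgroup G) = ⊤ := by
    apply Cfsg.Agent.S4035.eq_top_of_forall_conj_mem
    intro w
    obtain ⟨n, hn⟩ := (IsPGroup.iff_orderOf.1 Q.2) w
    rw [← Subgroup.orderOf_coe] at hn
    obtain ⟨a, ha⟩ := h (w : G) ⟨n, hn⟩
    have hnd : ¬ r ∣ (ConjClasses.mk (w : G)).carrier.ncard := by
      rw [baerP11_ncard, ha]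
      intro hd
      exact hrq ((Nat.prime_dvd_prime_iff_eq hr (Fact.out : q.Prime)).1 (hr.dvd_of_dvd_pow hd))
    obtain ⟨t, ht⟩ := Cfsg.Agent.S4035.exists_conj_centralized R (w : G) hnd
    have h1 := ht g hgR
    obtain ⟨u, huQ, huC⟩ := baerP11_trans q Q (Subgroup.centralizer ({(w : G)} : Set G)) a ha t
    rw [mem_centralizer_singleton_iff'] at huC
    have h2 : t * (w : G) * t⁻¹ = u * (w : G) * u⁻¹ := by
      have e : t * (w : G) = u * (w : G) * (u⁻¹ * t) := by
        rw [mul_assoc u, huC]; group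
      rw [e]; group
    rw [h2] at h1
    refine ⟨⟨u⁻¹, Subgroup.inv_mem _ huQ⟩, ?_⟩
    rw [Subgroup.mem_subgroupOf, mem_centralizer_singleton_iff']
    simp only [Subgroup.coe_mul, Subgroup.coe_inv, inv_inv]
    exact h1
  intro w hw
  have : (⟨w, hw⟩ : (Q : Subgroup G)) ∈
      (Subgroup.centralizer ({g} : Set G)).subgroupOf (Q : Subgroup G) := by
    rw [htop]; exact Subgroup.mem_top _
  rw [Subgroup.mem_subgroupOf, mem_centralizer_singleton_iff'] at this
  exact this

/-- An element of order prime to `q` centralizes `Q`. -/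
theorem baerP11_coprime (q : ℕ) [Fact q.Prime]
    (h : ∀ x : G, (∃ k : ℕ, orderOf x = q ^ k) →
      ∃ a : ℕ, (Subgroup.centralizer ({x} : Set G)).index = q ^ a)
    (Q : Sylow q G) (y : G) (hy : (orderOf y).Coprime q) :
    (Q : Subgroup G) ≤ Subgroup.centralizer ({y} : Set G) := by
  intro w hw
  rw [mem_centralizer_singleton_iff']
  have hc : Commute w y := by
    apply commute_of_primary
    intro r hr hrd
    have hn0 : orderOf y ≠ 0 := (orderOf_pos y).ne'
    have hrq : r ≠ q := by
      rintro rfl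
      exact hr.one_lt.ne' (Nat.eq_one_of_dvd_coprimes hy hrd dvd_rfl)
    have hord : orderOf (y ^ (orderOf y / r ^ (orderOf y).factorization r))
        = r ^ (orderOf y).factorization r := by
      rw [orderOf_pow_of_dvd (Nat.div_pos (Nat.le_of_dvd (Nat.pos_of_ne_zero hn0)
        (Nat.ordProj_dvd _ _)) (pow_pos hr.pos _)).ne' (Nat.div_dvd_of_dvd (Nat.ordProj_dvd _ _))]
      exact Nat.div_div_self (Nat.ordProj_dvd _ _) hn0
    exact (baerP11_primary q h Q r hr hrq _ _ hord w hw).symm
  exact hc.eq.symm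

theorem baer_eq_case (q : ℕ) [Fact q.Prime]
    (h : ∀ x : G, (∃ k : ℕ, orderOf x = q ^ k) →
      ∃ a : ℕ, (Subgroup.centralizer ({x} : Set G)).index = q ^ a) (Q : Sylow q G) :
    (Q : Subgroup G).Normal ∧ ∃ N : Subgroup G, N.Normal ∧ N.IsComplement' (Q : Subgroup G) := by
  have hcls : ∀ x : G, (orderOf x).Coprime q → ¬ q ∣ (ConjClasses.mk x).carrier.ncard := by
    intro x hx hd
    rw [baerP11_ncard] at hd
    have h1 : (Subgroup.centralizer ({x} : Set G)).index ∣ (Q : Subgroup G).index :=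
      Subgroup.index_dvd_of_le (baerP11_coprime q h Q x hx)
    exact Q.not_dvd_index (hd.trans h1)
  obtain ⟨hQn, H, hHn, -, hinf, hsup⟩ := Cfsg.Agent.S4035.result hcls Q
  refine ⟨hQn, H, hHn, ?_⟩
  have := hQn
  apply Subgroup.isComplement'_of_disjoint_and_mul_eq_univ
  · rw [disjoint_iff, inf_comm]; exact hinf
  · rw [← Subgroup.mul_normal, sup_comm, hsup]; rfl

end Cfsg.Agent.Lib.Helper18
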