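import Mathlib
import Cfsg.Agent.Lib.Helper22.TB0
import Cfsg.Agent.Lib.Helper33.FRChar

/-!
# DO piece LT (S0960 / S4441): the character of the lattice `latt c`

For `c = |G| • e`, `e` the central idempotent of a set `S` of irreducible characters, the trace of
left translation by `g` on the lattice `latt c = ℤG ∩ ℚG e` is `c g⁻¹ = ∑_{ψ∈S} ψ(1) ψ(g)`.
-/

set_option autoImplicit false

namespace Cfsg.Agent.Lib.Helper18.DO

open Cfsg Cfsg.Agent.Lib.Helper22.TB Cfsg.Agent.Lib.Helper4 Cfsg.Agent.Lib.Helper21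
  Cfsg.Agent.Lib.Helper33
open scoped ComplexConjugate

variable {G : Type*} [Group G] [Fintype G]

theorem lt_convZ_assoc (a b c : G → ℤ) : convZ (convZ a b) c = convZ a (convZ b c) := by
  funext g
  simp only [convZ_apply, Finset.sum_mul, Finset.mul_sum]
  rw [Finset.sum_comm]
  refine Finset.sum_congr rfl fun h _ => ?_
  refine Fintype.sum_equiv (Equiv.mulLeft h⁻¹) _ _ ?_
  intro k
  simp [mul_assoc]

theorem lt_convZ_smul (n : ℤ) (a b : G → ℤ) : convZ a (n • b) = n • convZ a b := by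
  funext g
  simp only [convZ_apply, Pi.smul_apply, smul_eq_mul, Finset.mul_sum]
  exact Finset.sum_congr rfl fun h _ => by ring

/-- right convolution with `c` -/
def ltPi (c : G → ℤ) : (G → ℤ) →ₗ[ℤ] (G → ℤ) where
  toFun u := convZ u c
  map_add' u v := by
    funext g
    simp only [convZ_apply, Pi.add_apply, add_mul, Finset.sum_add_distrib]
  map_smul' n u := by
    funext g
    simp only [convZ_apply, Pi.smul_apply, smul_eq_mul, RingHom.id_apply, Finset.mul_sum]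
    exact Finset.sum_congr rfl fun h _ => by ring

theorem ltPi_apply (c u : G → ℤ) : ltPi c u = convZ u c := rfl

theorem lt_cast_eq (S : Finset (Cfsg.IrrCharacter G)) (c : G → ℤ)
    (hc : ∀ g, (c g : ℂ) = ∑ ψ ∈ S, (ψ : G → ℂ) 1 * (ψ : G → ℂ) g⁻¹) (g : G) :
    (c g : ℂ) = (Nat.card G : ℂ) * blockCoeff (S : Set (IrrCharacter G)) g := by
  have hN : (Nat.card G : ℂ) ≠ 0 := by
    exact_mod_cast Nat.card_pos.ne'
  unfold blockCoeff
  rw [← mul_assoc, mul_inv_cancel₀ hN, one_mul, finsum_mem_coe_finset, hc g]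
  refine Finset.sum_congr rfl fun ψ _ => ?_
  rw [Cfsg.Agent.Lib.Helper4.irr_inv]

theorem lt_class (S : Finset (Cfsg.IrrCharacter G)) (c : G → ℤ)
    (hc : ∀ g, (c g : ℂ) = ∑ ψ ∈ S, (ψ : G → ℂ) 1 * (ψ : G → ℂ) g⁻¹) (g h : G) :
    c (h * g * h⁻¹) = c g := by
  have : ((c (h * g * h⁻¹) : ℤ) : ℂ) = (c g : ℂ) := by
    rw [lt_cast_eq S c hc, lt_cast_eq S c hc, blockCoeff_isClassFunction _ g h]
  exact_mod_cast this

theorem lt_conv_self (S : Finset (Cfsg.IrrCharacter G)) (c : G → ℤ)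
    (hc : ∀ g, (c g : ℂ) = ∑ ψ ∈ S, (ψ : G → ℂ) 1 * (ψ : G → ℂ) g⁻¹) :
    convZ c c = (Nat.card G : ℤ) • c := by
  funext g
  have key := congrFun (conv_blockCoeff_self (S : Set (IrrCharacter G))) g
  rw [conv_apply] at key
  have : ((convZ c c g : ℤ) : ℂ) = (((Nat.card G : ℤ) • c) g : ℤ) := by
    rw [convZ_apply]
    push_cast
    simp only [lt_cast_eq S c hc]
    rw [Pi.smul_apply, smul_eq_mul]
    push_cast
    rw [lt_cast_eq S c hc, ← key, Finset.mul_sum, Finset.mul_sum]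
    refine Finset.sum_congr rfl fun h _ => ?_
    ring
  exact_mod_cast this

theorem lt_Pi_mem (S : Finset (Cfsg.IrrCharacter G)) (c : G → ℤ)
    (hc : ∀ g, (c g : ℂ) = ∑ ψ ∈ S, (ψ : G → ℂ) 1 * (ψ : G → ℂ) g⁻¹) (u : G → ℤ) :
    convZ u c ∈ latt c := by
  rw [mem_latt, lt_convZ_assoc, lt_conv_self S c hc, lt_convZ_smul]

theorem lt_trace_full (S : Finset (Cfsg.IrrCharacter G)) (c : G → ℤ)
    (hc : ∀ g, (c g : ℂ) = ∑ ψ ∈ S, (ψ : G → ℂ) 1 * (ψ : G → ℂ) g⁻¹) (g : G) :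
    LinearMap.trace ℤ (G → ℤ) (ltr g ∘ₗ ltPi c) = (Nat.card G : ℤ) * c g⁻¹ := by
  classical
  rw [LinearMap.trace_eq_matrix_trace ℤ (Pi.basisFun ℤ G), Matrix.trace]
  have : ∀ x : G, Matrix.diag (LinearMap.toMatrix (Pi.basisFun ℤ G) (Pi.basisFun ℤ G)
      (ltr g ∘ₗ ltPi c)) x = c g⁻¹ := by
    intro x
    rw [Matrix.diag_apply, LinearMap.toMatrix_apply, Pi.basisFun_repr, Pi.basisFun_apply,
      LinearMap.comp_apply, ltr_apply, ltPi_apply, convZ_apply]
    rw [Finset.sum_eq_single x]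
    · rw [Pi.single_eq_same, one_mul]
      have := lt_class S c hc g⁻¹ x⁻¹
      rw [inv_inv] at this
      rw [← this, mul_assoc]
    · intro b _ hb
      rw [Pi.single_eq_of_ne hb, zero_mul]
    · intro h
      exact absurd (Finset.mem_univ x) h
  rw [Finset.sum_congr rfl fun x _ => this x, Finset.sum_const, Finset.card_univ,
    Nat.card_eq_fintype_card, nsmul_eq_mul]

theorem latt_trace (S : Finset (Cfsg.IrrCharacter G)) (c : G → ℤ)
    (hc : ∀ g, (c g : ℂ) = ∑ ψ ∈ S, (ψ : G → ℂ) 1 * (ψ : G → ℂ) g⁻¹) (g : G) :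
    LinearMap.trace ℤ ↥(latt c) (lrep c g) = c g⁻¹ := by
  have hN : (Nat.card G : ℤ) ≠ 0 := by
    exact_mod_cast Nat.card_pos.ne'
  have hf : ∀ x, (ltr g ∘ₗ ltPi c) x ∈ latt c := by
    intro u
    rw [LinearMap.comp_apply, ltPi_apply]
    exact ltr_mem_latt c g (lt_Pi_mem S c hc u)
  have h1 := LinearMap.trace_restrict_eq_of_forall_mem (latt c) (ltr g ∘ₗ ltPi c) hf
  rw [lt_trace_full S c hc g] at h1
  have h2 : (ltr g ∘ₗ ltPi c).restrict (fun x _ => hf x) = (Nat.card G : ℤ) • lrep c g := by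
    ext u x
    have hu : convZ (u : G → ℤ) c = (Nat.card G : ℤ) • (u : G → ℤ) := u.2
    simp only [LinearMap.coe_restrict_apply, LinearMap.comp_apply, ltPi_apply, hu,
      LinearMap.smul_apply, Submodule.coe_smul, Pi.smul_apply, lrep_apply, ltr_apply]
  rw [h2, map_smul, smul_eq_mul] at h1
  exact mul_left_cancel₀ hN h1

end Cfsg.Agent.Lib.Helper18.DO
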