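import Mathlib

set_option autoImplicit false

namespace Cfsg.Agent.Lib.Helper18.NRank

open Matrix

universe u

theorem exists_xt {F : Type u} [Field F] [Fintype F] (h4 : Fintype.card F % 4 = 3) :
    ∃ x t : F, t ^ 2 = x ^ 2 ∧ 2 * x * t = 1 := by
  classical
  have hm1 : ¬ IsSquare (-1 : F) := by
    rw [FiniteField.isSquare_neg_one_iff]
    simp [h4]
  have hchar : ringChar F ≠ 2 := by
    intro h
    have := FiniteField.even_card_iff_char_two.mp h
    omega
  have h2 : (2 : F) ≠ 0 := Ring.two_ne_zero hchar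
  obtain ⟨y, hy⟩ : ∃ y : F, y ^ 2 = 2 ∨ y ^ 2 = -2 := by
    by_cases hs : IsSquare (2 : F)
    · obtain ⟨y, hy⟩ := hs
      exact ⟨y, Or.inl (by rw [hy, sq])⟩
    · have h1 : quadraticChar F (-2) = 1 := by
        have e : (-2 : F) = (-1) * 2 := by ring
        rw [e, map_mul, quadraticChar_neg_one_iff_not_isSquare.mpr hm1,
          quadraticChar_neg_one_iff_not_isSquare.mpr hs]
        norm_num
      have hne : (-2 : F) ≠ 0 := neg_ne_zero.mpr h2
      obtain ⟨y, hy⟩ := (quadraticChar_one_iff_isSquare hne).mp h1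
      exact ⟨y, Or.inr (by rw [hy, sq])⟩
  have hy0 : y ≠ 0 := by
    intro h
    rw [h] at hy
    rcases hy with hy | hy
    · exact h2 (by rw [← hy]; ring)
    · exact h2 (by linear_combination hy)
  rcases hy with hy | hy
  · refine ⟨y⁻¹, y⁻¹, rfl, ?_⟩
    field_simp
    rw [hy]
  · refine ⟨y⁻¹, -y⁻¹, by ring, ?_⟩
    field_simp
    linear_combination -hy

theorem exists_a0 {F : Type u} [Field F] [Fintype F] (h4 : Fintype.card F % 4 = 3) :
    ∃ a : GL (Fin 2) F, a ^ 8 = 1 ∧ ∀ (v : Fin 2 → F) (c : F),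
      ((a ^ 2 : GL (Fin 2) F) : Matrix (Fin 2) (Fin 2) F) *ᵥ v = c • v → v = 0 := by
  classical
  have hm1 : ¬ IsSquare (-1 : F) := by
    rw [FiniteField.isSquare_neg_one_iff]
    simp [h4]
  obtain ⟨x, t, hxt, h1⟩ := exists_xt h4
  obtain ⟨A, hA⟩ : ∃ A : Matrix (Fin 2) (Fin 2) F, A = !![x, -t; t, x] := ⟨_, rfl⟩
  have hA2 : A ^ 2 = !![0, -1; 1, 0] := by
    rw [hA, sq, Matrix.mul_fin_two]
    ext i j
    fin_cases i <;> fin_cases j
    · simp only [Fin.zero_eta, Fin.isValue, of_apply, cons_val', cons_val_zero, cons_val_fin_one]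
      linear_combination -hxt
    · simp only [Fin.zero_eta, Fin.mk_one, Fin.isValue, of_apply, cons_val', cons_val_one,
        cons_val_fin_one, cons_val_zero]
      linear_combination -h1
    · simp only [Fin.mk_one, Fin.zero_eta, Fin.isValue, of_apply, cons_val', cons_val_zero,
        cons_val_fin_one, cons_val_one]
      linear_combination h1
    · simp only [Fin.mk_one, Fin.isValue, of_apply, cons_val', cons_val_one, cons_val_fin_one]
      linear_combination -hxt
  have hJ2 : (!![0, -1; 1, 0] : Matrix (Fin 2) (Fin 2) F) ^ 2 = -1 := by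
    rw [sq, Matrix.mul_fin_two]
    ext i j
    fin_cases i <;> fin_cases j <;> simp
  have hA8 : A ^ 8 = 1 := by
    have e : A ^ 8 = ((A ^ 2) ^ 2) ^ 2 := by rw [← pow_mul, ← pow_mul]
    rw [e, hA2, hJ2]
    simp
  refine ⟨⟨A, A ^ 7, by rw [← pow_succ']; exact hA8, by rw [← pow_succ]; exact hA8⟩, ?_, ?_⟩
  · apply Units.ext
    rw [Units.val_pow_eq_pow_val]
    exact hA8
  · intro v c hv
    rw [Units.val_pow_eq_pow_val] at hv
    change A ^ 2 *ᵥ v = c • v at hv
    rw [hA2] at hv
    have e0 := congrFun hv 0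
    have e1 := congrFun hv 1
    simp [Matrix.mulVec, dotProduct, Fin.sum_univ_two] at e0 e1
    -- e0 : -v 1 = c * v 0 ; e1 : v 0 = c * v 1
    have hc : c ^ 2 + 1 ≠ 0 := by
      intro h
      apply hm1
      exact ⟨c, by linear_combination -h⟩
    have hv0 : v 0 = 0 := by
      have : (c ^ 2 + 1) * v 0 = 0 := by linear_combination (-c) * e0 + e1
      exact (mul_eq_zero.mp this).resolve_left hc
    have hv1 : v 1 = 0 := by
      rw [hv0] at e0
      linear_combination -e0
    ext i
    fin_cases i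
    · exact hv0
    · exact hv1

end Cfsg.Agent.Lib.Helper18.NRank
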