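import Mathlib
import Cfsg.Agent.Lib.Helper18.UnitaryWitt

/-!
# Counting isotropic frames in the unitary space (helper18)

* `perpCnt_zero`: number of isotropic vectors orthogonal to an orthonormal frame.
* `card_iso_perp`, `card_iso_ext`: isotropic vectors orthogonal to an isotropic frame.
* `card_isoFrU`: the number of isotropic `k`-frames.
* `hcnt_zero_eq`, `arithU`: closed forms.
-/

set_option autoImplicit false
set_option linter.unusedSectionVars false
set_option linter.unusedVariables false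

namespace Cfsg.Agent.Lib.Helper18

open Matrix Cfsg.Agent.Lib.Helper7

theorem card_eq_mul_of_fibers' {α β : Type*} [Finite α] [Finite β] (f : α → β) (c : ℕ)
    (h : ∀ b, Nat.card {a // f a = b} = c) : Nat.card α = Nat.card β * c := by
  classical
  have := Fintype.ofFinite β
  rw [← Nat.card_congr (Equiv.sigmaFiberEquiv f), Nat.card_sigma]
  simp [h, Nat.card_eq_fintype_card]

section
variable {F : Type*} [Field F] [Fintype F] {q : ℕ}

theorem hcnt_zero_pos (k : ℕ) : 0 < hcnt F q k 0 := by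
  unfold hcnt
  rw [Nat.card_pos_iff]
  exact ⟨⟨⟨0, by simp⟩⟩, inferInstance⟩

theorem perpCnt_zero (hF : Fintype.card F = q ^ 2) {k m : ℕ} (f : Fin k → Fin (k + m) → F)
    (hf : IsFr q (k + m) k f) : perpCnt q f 0 = hcnt F q m 0 := by
  have hq := herm_two_le hF
  have e0 := hcnt_split hF f hf 0 (zero_pow (herm_q_ne_zero hF))
  have hB := perpCnt_one hF f hf
  obtain ⟨h1, h2⟩ := herm_counts hF k
  obtain ⟨h3, h4⟩ := herm_counts hF (k + m)
  obtain ⟨h5, h6⟩ := herm_counts hF m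
  have hx2 : (q : ℤ) ^ (2 * k) = ((-(q : ℤ)) ^ k) ^ 2 := by
    rw [← pow_mul, mul_comm k 2, pow_mul (-(q : ℤ)) 2 k, neg_sq, ← pow_mul]
  have hy2 : (q : ℤ) ^ (2 * m) = ((-(q : ℤ)) ^ m) ^ 2 := by
    rw [← pow_mul, mul_comm m 2, pow_mul (-(q : ℤ)) 2 m, neg_sq, ← pow_mul]
  have hz2 : (q : ℤ) ^ (2 * (k + m)) = ((-(q : ℤ)) ^ k) ^ 2 * ((-(q : ℤ)) ^ m) ^ 2 := by
    rw [mul_add, pow_add, hx2, hy2]
  rw [pow_add] at h3
  rw [hx2] at h2 e0
  rw [hy2] at h6
  rw [hz2] at h4
  rw [hB] at e0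
  have hak : (hcnt F q k 0 : ℤ) ≠ 0 := by exact_mod_cast (hcnt_zero_pos (F := F) (q := q) k).ne'
  have hq0 : (q : ℤ) ≠ 0 := by exact_mod_cast (by omega : q ≠ 0)
  have goal : (perpCnt q f 0 : ℤ) = hcnt F q m 0 := by
    generalize (-(q : ℤ)) ^ k = x at *
    generalize (-(q : ℤ)) ^ m = y at *
    generalize (hcnt F q k 0 : ℤ) = ak at *
    generalize (hcnt F q k 1 : ℤ) = bk at *
    generalize (hcnt F q (k + m) 0 : ℤ) = an at *
    generalize (hcnt F q (k + m) 1 : ℤ) = bn at *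
    generalize (hcnt F q m 0 : ℤ) = am at *
    generalize (hcnt F q m 1 : ℤ) = bm at *
    generalize (perpCnt q f 0 : ℤ) = A at *
    have h' : (q : ℤ) ^ 2 * ak * A = (q : ℤ) ^ 2 * ak * am := by
      linear_combination (-(q : ℤ) ^ 2) * e0 + (q : ℤ) * (h4 + ((q : ℤ) - 1) * h3)
        - (q : ℤ) * x ^ 2 * (h6 - h5) + (q : ℤ) * bm * (h2 + ((q : ℤ) - 1) * h1)
        + (x ^ 2 + ((q : ℤ) - 1) * x) * (h6 - h5) - (q : ℤ) * am * (h2 + ((q : ℤ) - 1) * h1)
        - (x ^ 2 + ((q : ℤ) - 1) * x) * (h6 + ((q : ℤ) - 1) * h5)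
    exact mul_left_cancel₀ (mul_ne_zero (pow_ne_zero _ hq0) hak) h'
  exact_mod_cast goal

/-- the isotropic vectors orthogonal to an isotropic frame -/
theorem card_iso_perp (hF : Fintype.card F = q ^ 2) {n j : ℕ} (y : Fin j → Fin n → F)
    (hli : LinearIndependent F y) (hiso : ∀ i i', Cfsg.hermForm n F q (y i) (y i') = 0) :
    Nat.card {v : Fin n → F // (∀ i, Cfsg.hermForm n F q v (y i) = 0) ∧
      Cfsg.hermForm n F q v v = 0} = q ^ (2 * j) * hcnt F q (n - 2 * j) 0 := by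
  classical
  obtain ⟨f, hyf, hff⟩ := exists_herm_partner_family hF y hli hiso
  have hyp : IsHypFr q n j y f := ⟨hiso, hff, hyf⟩
  have hfy := hyp.fx hF
  obtain ⟨l, hl⟩ := exists_trace_one hF
  obtain ⟨ω, hω0, hω⟩ := exists_omega hF
  have hc := isFr_hyp hF l ω hl hω hyp
  have hle := isFr_le _ hc
  have P1 : ∀ (t : Fin j → F) i, Cfsg.hermForm n F q (∑ m, t m • y m) (y i) = 0 := by
    intro t i
    rw [hf_sum_left]
    simp only [hf_smul_left, hiso, mul_zero, Finset.sum_const_zero]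
  have P2 : ∀ (t : Fin j → F) i, Cfsg.hermForm n F q (∑ m, t m • y m) (f i) = t i := by
    intro t i
    rw [hf_sum_left]
    simp only [hf_smul_left, hyf, mul_ite, mul_one, mul_zero, Finset.sum_ite_eq',
      Finset.mem_univ, if_true]
  have P3 : ∀ (u : Fin n → F) (t : Fin j → F), (∀ i, Cfsg.hermForm n F q u (y i) = 0) →
      Cfsg.hermForm n F q u (∑ m, t m • y m) = 0 := by
    intro u t hu
    rw [hf_sum_right hF]
    simp only [hf_smul_right, hu, mul_zero, Finset.sum_const_zero]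
  have P4 : ∀ (u : Fin n → F) (t : Fin j → F), (∀ i, Cfsg.hermForm n F q u (y i) = 0) →
      Cfsg.hermForm n F q (∑ m, t m • y m) u = 0 := fun u t hu =>
    hf_eq_zero_symm hF n _ _ (P3 u t hu)
  have e : {v : Fin n → F // (∀ i, Cfsg.hermForm n F q v (y i) = 0) ∧
      Cfsg.hermForm n F q v v = 0} ≃
      {w : Fin n → F // (∀ i, Cfsg.hermForm n F q w (y i) = 0) ∧
        (∀ i, Cfsg.hermForm n F q w (f i) = 0) ∧ Cfsg.hermForm n F q w w = 0} ×
        (Fin j → F) :=
    { toFun := fun v => (⟨v.1 - ∑ m, Cfsg.hermForm n F q v.1 (f m) • y m, by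
          refine ⟨fun i => ?_, fun i => ?_, ?_⟩
          · rw [hf_sub_left, v.2.1, P1, sub_zero]
          · rw [hf_sub_left, P2, sub_self]
          · rw [hf_sub_left, hf_sub_right hF, hf_sub_right hF, v.2.2, P3 _ _ v.2.1,
              P4 _ _ v.2.1, P3 _ _ (P1 _)]
            ring⟩, fun i => Cfsg.hermForm n F q v.1 (f i))
      invFun := fun p => ⟨p.1.1 + ∑ m, p.2 m • y m, by
          refine ⟨fun i => ?_, ?_⟩
          · rw [hf_add_left, p.1.2.1, P1, add_zero]
          · rw [hf_add_left, hf_add_right hF, hf_add_right hF, p.1.2.2.2, P3 _ _ p.1.2.1,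
              P4 _ _ p.1.2.1, P3 _ _ (P1 _)]
            ring⟩
      left_inv := fun v => Subtype.ext (sub_add_cancel _ _)
      right_inv := fun p => by
        have h1 : ∀ i, Cfsg.hermForm n F q (p.1.1 + ∑ m, p.2 m • y m) (f i) = p.2 i := by
          intro i
          rw [hf_add_left, p.1.2.2.1, P2, zero_add]
        apply Prod.ext
        · apply Subtype.ext
          show p.1.1 + ∑ m, p.2 m • y m -
            ∑ m, Cfsg.hermForm n F q (p.1.1 + ∑ m, p.2 m • y m) (f m) • y m = p.1.1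
          simp only [h1]
          rw [add_sub_cancel_right]
        · funext i
          exact h1 i }
  have e2 : Nat.card {w : Fin n → F // (∀ i, Cfsg.hermForm n F q w (y i) = 0) ∧
        (∀ i, Cfsg.hermForm n F q w (f i) = 0) ∧ Cfsg.hermForm n F q w w = 0} =
      perpCnt q (Fin.append (hypC1 l y f) (hypC2 l ω y f)) 0 := by
    unfold perpCnt
    refine Nat.card_congr (Equiv.subtypeEquivRight fun w => ?_)
    constructor
    · rintro ⟨h1, h2, h3⟩
      refine ⟨fun a => ?_, h3⟩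
      induction a using Fin.addCases with
      | left i =>
        rw [Fin.append_left]
        unfold hypC1
        rw [hf_add_right hF, hf_smul_right, h1, h2, mul_zero, add_zero]
      | right i =>
        rw [Fin.append_right]
        unfold hypC2
        rw [hf_smul_right, hf_sub_right hF, hf_smul_right, h1, h2, mul_zero, sub_zero, mul_zero]
    · rintro ⟨h1, h3⟩
      have h11 : ∀ i, Cfsg.hermForm n F q w (hypC1 l y f i) = 0 := fun i => by
        have := h1 (Fin.castAdd j i)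
        rwa [Fin.append_left] at this
      have h12 : ∀ i, Cfsg.hermForm n F q w (hypC2 l ω y f i) = 0 := fun i => by
        have := h1 (Fin.natAdd j i)
        rwa [Fin.append_right] at this
      refine ⟨fun i => ?_, fun i => ?_, h3⟩
      · rw [hyp_x l ω hω0 y f i, hf_add_right hF, hf_smul_right, h11, h12, mul_zero, add_zero]
      · rw [hyp_f l ω hω0 y f i, hf_sub_right hF, hf_smul_right, hf_smul_right, h11, h12,
          mul_zero, mul_zero, sub_zero]
  rw [Nat.card_congr e, Nat.card_prod, e2, Nat.card_eq_fintype_card (α := Fin j → F),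
    card_fun_eq hF]
  obtain ⟨m, rfl⟩ : ∃ m, n = j + j + m := ⟨n - (j + j), by omega⟩
  rw [perpCnt_zero hF _ hc, mul_comm]
  congr 2
  omega

/-- the isotropic vectors orthogonal to an isotropic frame and outside its span -/
theorem card_iso_ext (hF : Fintype.card F = q ^ 2) {n j : ℕ} (y : Fin j → Fin n → F)
    (hli : LinearIndependent F y) (hiso : ∀ i i', Cfsg.hermForm n F q (y i) (y i') = 0) :
    Nat.card {v : Fin n → F // (∀ i, Cfsg.hermForm n F q v (y i) = 0) ∧
      Cfsg.hermForm n F q v v = 0 ∧ v ∉ Submodule.span F (Set.range y)} =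
      q ^ (2 * j) * hcnt F q (n - 2 * j) 0 - q ^ (2 * j) := by
  classical
  obtain ⟨Zs, hZs⟩ : ∃ Zs : Set (Fin n → F), Zs = {v | (∀ i, Cfsg.hermForm n F q v (y i) = 0) ∧
      Cfsg.hermForm n F q v v = 0} := ⟨_, rfl⟩
  obtain ⟨S, hS⟩ : ∃ S : Submodule F (Fin n → F), S = Submodule.span F (Set.range y) :=
    ⟨_, rfl⟩
  have hsub : (S : Set (Fin n → F)) ⊆ Zs := by
    intro v hv
    rw [SetLike.mem_coe, hS] at hv
    obtain ⟨t, rfl⟩ := (Submodule.mem_span_range_iff_exists_fun F).mp hv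
    have P1 : ∀ i, Cfsg.hermForm n F q (∑ m, t m • y m) (y i) = 0 := by
      intro i
      rw [hf_sum_left]
      simp only [hf_smul_left, hiso, mul_zero, Finset.sum_const_zero]
    rw [hZs]
    refine ⟨P1, ?_⟩
    rw [hf_sum_right hF]
    simp only [hf_smul_right, P1, mul_zero, Finset.sum_const_zero]
  have e1 : Nat.card {v : Fin n → F // (∀ i, Cfsg.hermForm n F q v (y i) = 0) ∧
      Cfsg.hermForm n F q v v = 0 ∧ v ∉ Submodule.span F (Set.range y)} =
      Nat.card (Zs \ (S : Set (Fin n → F)) : Set (Fin n → F)) := by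
    refine Nat.card_congr (Equiv.subtypeEquivRight fun v => ?_)
    rw [Set.mem_sdiff, hZs, SetLike.mem_coe, hS]
    exact ⟨fun h => ⟨⟨h.1, h.2.1⟩, h.2.2⟩, fun h => ⟨h.1.1, h.1.2, h.2⟩⟩
  have e2 : Nat.card Zs = q ^ (2 * j) * hcnt F q (n - 2 * j) 0 := by
    rw [← card_iso_perp hF y hli hiso, hZs]
    rfl
  have e3 : Nat.card (S : Set (Fin n → F)) = q ^ (2 * j) := by
    rw [SetLike.coe_sort_coe, Module.natCard_eq_pow_finrank (K := F), Nat.card_eq_fintype_card,
      hF, hS, finrank_span_eq_card hli, Fintype.card_fin, pow_mul]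
  rw [e1, Nat.card_coe_set_eq, Set.ncard_sdiff hsub, ← Nat.card_coe_set_eq, ← Nat.card_coe_set_eq,
    e2, e3]

/-- isotropic frames for the Hermitian form -/
def IsoFrU (q n k : ℕ) (x : Fin k → Fin n → F) : Prop :=
  LinearIndependent F x ∧ ∀ i j, Cfsg.hermForm n F q (x i) (x j) = 0

theorem card_isoFrU_succ (hF : Fintype.card F = q ^ 2) (n j : ℕ) :
    Nat.card {x : Fin (j + 1) → Fin n → F // IsoFrU q n (j + 1) x} =
      Nat.card {y : Fin j → Fin n → F // IsoFrU q n j y} *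
        (q ^ (2 * j) * hcnt F q (n - 2 * j) 0 - q ^ (2 * j)) := by
  classical
  have htail : ∀ x : {x : Fin (j + 1) → Fin n → F // IsoFrU q n (j + 1) x},
      IsoFrU q n j (Fin.tail x.1) := fun x =>
    ⟨x.2.1.comp Fin.succ (Fin.succ_injective _), fun i i' => x.2.2 i.succ i'.succ⟩
  refine card_eq_mul_of_fibers'
    (fun x => (⟨Fin.tail x.1, htail x⟩ : {y : Fin j → Fin n → F // IsoFrU q n j y})) _
    (fun y => ?_)
  rw [← card_iso_ext hF y.1 y.2.1 y.2.2]
  refine Nat.card_congr ?_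
  refine
    { toFun := fun x => ⟨x.1.1 0, ?_⟩
      invFun := fun v => ⟨⟨Fin.cons v.1 y.1, ?_⟩, ?_⟩
      left_inv := ?_
      right_inv := ?_ }
  · obtain ⟨⟨x, hx⟩, hxy⟩ := x
    have hxy' : Fin.tail x = y.1 := congrArg Subtype.val hxy
    simp only
    refine ⟨fun i => ?_, hx.2 0 0, ?_⟩
    · rw [← hxy']
      exact hx.2 0 i.succ
    · rw [← hxy']
      have h1 := hx.1
      rw [← Fin.cons_self_tail x, linearIndependent_finCons] at h1
      exact h1.2
  · obtain ⟨v, hv1, hv2, hv3⟩ := v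
    refine ⟨?_, ?_⟩
    · rw [linearIndependent_finCons]
      exact ⟨y.2.1, hv3⟩
    · intro i i'
      refine Fin.cases ?_ (fun a => ?_) i <;> refine Fin.cases ?_ (fun b => ?_) i'
      · simp only [Fin.cons_zero]; exact hv2
      · simp only [Fin.cons_zero, Fin.cons_succ]; exact hv1 b
      · simp only [Fin.cons_zero, Fin.cons_succ]; exact hf_eq_zero_symm hF n _ _ (hv1 a)
      · simp only [Fin.cons_succ]; exact y.2.2 a b
  · refine Subtype.ext ?_
    show Fin.tail (Fin.cons v.1 y.1 : Fin (j + 1) → Fin n → F) = y.1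
    exact Fin.tail_cons _ _
  · intro x
    obtain ⟨⟨x, hx⟩, hxy⟩ := x
    have hxy' : Fin.tail x = y.1 := congrArg Subtype.val hxy
    refine Subtype.ext (Subtype.ext ?_)
    simp only
    rw [← hxy']
    exact Fin.cons_self_tail x
  · intro v
    refine Subtype.ext ?_
    simp only [Fin.cons_zero]

theorem card_isoFrU (hF : Fintype.card F = q ^ 2) (n k : ℕ) :
    Nat.card {x : Fin k → Fin n → F // IsoFrU q n k x} =
      ∏ j ∈ Finset.range k, (q ^ (2 * j) * hcnt F q (n - 2 * j) 0 - q ^ (2 * j)) := by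
  induction k with
  | zero =>
    rw [Finset.prod_range_zero]
    have : Unique {x : Fin 0 → Fin n → F // IsoFrU q n 0 x} :=
      { default := ⟨Fin.elim0, linearIndependent_empty_type, fun i => i.elim0⟩
        uniq := fun x => Subtype.ext (Subsingleton.elim _ _) }
    exact Nat.card_unique
  | succ k ih =>
    rw [Finset.prod_range_succ, ← ih, card_isoFrU_succ hF]

end

/-- the factors of the order of `GU_n(q)` -/
def epsU (q i : ℕ) : ℕ := if Even i then q ^ (i + 1) + 1 else q ^ (i + 1) - 1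

theorem epsU_cast (q : ℕ) (hq : 1 ≤ q) (i : ℕ) :
    ((epsU q i : ℕ) : ℤ) = (q : ℤ) ^ (i + 1) - (-1) ^ (i + 1) := by
  unfold epsU
  split_ifs with h
  · rw [Odd.neg_one_pow (Even.add_one h)]
    push_cast
    ring
  · have h' : Even (i + 1) := by
      rw [Nat.even_add_one]; exact h
    rw [Even.neg_one_pow h', Nat.cast_sub (Nat.one_le_pow _ _ hq)]
    push_cast
    ring

theorem epsU_pos (q : ℕ) (hq : 2 ≤ q) (i : ℕ) : 0 < epsU q i := by
  unfold epsU
  split_ifs
  · positivity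
  · exact Nat.sub_pos_of_lt (Nat.one_lt_pow (by omega) (by omega))

section
variable {F : Type*} [Field F] [Fintype F] {q : ℕ}

theorem hcnt_zero_eq (hF : Fintype.card F = q ^ 2) (e : ℕ) :
    hcnt F q (e + 2) 0 = epsU q (e + 1) * epsU q e + 1 := by
  have hq := herm_two_le hF
  obtain ⟨h1, h2⟩ := herm_counts hF (e + 2)
  have hq0 : (q : ℤ) ≠ 0 := by exact_mod_cast (by omega : q ≠ 0)
  have key : (hcnt F q (e + 2) 0 : ℤ) = ((epsU q (e + 1) : ℕ) : ℤ) * ((epsU q e : ℕ) : ℤ) + 1 := by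
    rw [epsU_cast q (by omega), epsU_cast q (by omega)]
    obtain ⟨s, hs⟩ : ∃ s : ℤ, s = (-1) ^ e := ⟨_, rfl⟩
    have hs2 : s ^ 2 = 1 := by
      rw [hs, ← pow_mul, mul_comm, pow_mul]
      norm_num
    have e1 : (-1 : ℤ) ^ (e + 1 + 1) = s := by rw [hs]; ring
    have e2 : (-1 : ℤ) ^ (e + 1) = -s := by rw [hs]; ring
    have e3 : (-(q : ℤ)) ^ (e + 2) = s * ((q : ℤ) * (q : ℤ) ^ (e + 1)) := by
      rw [hs, neg_pow]; ring
    have e4 : (q : ℤ) ^ (2 * (e + 2)) = ((q : ℤ) * (q : ℤ) ^ (e + 1)) ^ 2 := by ring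
    have e5 : (q : ℤ) ^ (e + 1 + 1) = (q : ℤ) * (q : ℤ) ^ (e + 1) := by ring
    rw [e1, e2, e5]
    rw [e3] at h1
    rw [e4] at h2
    generalize (q : ℤ) ^ (e + 1) = Q at *
    apply mul_left_cancel₀ hq0
    linear_combination h2 + ((q : ℤ) - 1) * h1 + (q : ℤ) * hs2
  exact_mod_cast key

end

theorem arithU (q : ℕ) (hq : 2 ≤ q) (a : ℕ → ℕ)
    (ha : ∀ e, a (e + 2) = epsU q (e + 1) * epsU q e + 1) (n k : ℕ) (hk : 2 * k ≤ n) :
    (∏ j ∈ Finset.range k, (q ^ (2 * j) * a (n - 2 * j) - q ^ (2 * j))) *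
      (q ^ (k * (2 * n - 3 * k)) * (q ^ ((n - 2 * k) * ((n - 2 * k) - 1) / 2) *
        ∏ i ∈ Finset.range (n - 2 * k), epsU q i)) =
    q ^ (n * (n - 1) / 2) * ∏ i ∈ Finset.range n, epsU q i := by
  induction k with
  | zero => simp
  | succ k ih =>
    have ih' := ih (by omega)
    obtain ⟨r, rfl⟩ : ∃ r, n = 2 * k + 2 + r := ⟨n - (2 * k + 2), by omega⟩
    rw [← ih', Finset.prod_range_succ]
    have e1 : 2 * k + 2 + r - 2 * (k + 1) = r := by omega
    have e2 : 2 * k + 2 + r - 2 * k = r + 2 := by omega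
    have e3 : 2 * (2 * k + 2 + r) - 3 * (k + 1) = k + 2 * r + 1 := by omega
    have e4 : 2 * (2 * k + 2 + r) - 3 * k = k + 4 + 2 * r := by omega
    have e5 : (r + 2) * (r + 2 - 1) / 2 = r * (r - 1) / 2 + (2 * r + 1) := by
      have : (r + 2) * (r + 2 - 1) = r * (r - 1) + 2 * (2 * r + 1) := by
        have h1 : r + 2 - 1 = r + 1 := by omega
        rw [h1]
        cases r with
        | zero => rfl
        | succ s =>
          have h2 : s + 1 - 1 = s := by omega
          rw [h2]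
          ring
      rw [this, Nat.add_mul_div_left _ _ (by norm_num)]
    have e6 : q ^ (2 * k) * a (r + 2) - q ^ (2 * k) =
        q ^ (2 * k) * (epsU q (r + 1) * epsU q r) := by
      rw [ha, Nat.mul_add, mul_one, Nat.add_sub_cancel]
    rw [e1, e2, e3, e4, e5, e6, Finset.prod_range_succ, Finset.prod_range_succ]
    obtain ⟨t, ht⟩ : ∃ t, t = r * (r - 1) / 2 := ⟨_, rfl⟩
    rw [← ht]
    ring

theorem prod_isoU_pos (q : ℕ) (hq : 2 ≤ q) (a : ℕ → ℕ)
    (ha : ∀ e, a (e + 2) = epsU q (e + 1) * epsU q e + 1) (n k : ℕ) (hk : 2 * k ≤ n) :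
    0 < ∏ j ∈ Finset.range k, (q ^ (2 * j) * a (n - 2 * j) - q ^ (2 * j)) := by
  refine Finset.prod_pos (fun j hj => ?_)
  rw [Finset.mem_range] at hj
  obtain ⟨e, he⟩ : ∃ e, n - 2 * j = e + 2 := ⟨n - 2 * j - 2, by omega⟩
  rw [he, ha]
  have h1 := epsU_pos q hq (e + 1)
  have h2 := epsU_pos q hq e
  have h3 : 0 < q ^ (2 * j) := pow_pos (by omega) _
  have h4 : 0 < epsU q (e + 1) * epsU q e := Nat.mul_pos h1 h2
  exact Nat.sub_pos_of_lt (lt_mul_of_one_lt_right h3 (by omega))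

end Cfsg.Agent.Lib.Helper18
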